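/-
Groups critical with respect to a set of element orders: products of coprime Frobenius groups.
Main results (namespace `Cfsg.Agent.SpecCritical`): `Frob`, `orderOf_pi_coprime`, `exists_candidate`, `exists_critical`.
-/
import Mathlib
import Cfsg.Agent.EqLemmas

set_option autoImplicit false
set_option linter.unusedVariables false

namespace Cfsg.Agent.SpecCritical

section Frobenius

variable (v u : ℕ) [NeZero v]

/-- The vectors over `ZMod u` with coordinate sum zero, indexed by `ZMod v`. -/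
def sumZero : AddSubgroup (ZMod v → ZMod u) where
  carrier := {f | ∑ i, f i = 0}
  zero_mem' := by simp
  add_mem' hf hg := by
    simp only [Set.mem_setOf_eq, Pi.add_apply] at *
    rw [Finset.sum_add_distrib, hf, hg, add_zero]
  neg_mem' hf := by
    simp only [Set.mem_setOf_eq, Pi.neg_apply] at *
    rw [Finset.sum_neg_distrib, hf, neg_zero]

/-- Translation of the coordinates. -/
def moveEquiv (t : ZMod v) : sumZero v u ≃+ sumZero v u where
  toFun f := ⟨fun i => f.1 (i + t), (Equiv.sum_comp (Equiv.addRight t) fun i => f.1 i).trans f.2⟩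
  invFun f := ⟨fun i => f.1 (i - t), (Equiv.sum_comp (Equiv.subRight t) fun i => f.1 i).trans f.2⟩
  left_inv f := by ext i; simp
  right_inv f := by ext i; simp
  map_add' f g := rfl

/-- The translations as automorphisms. -/
def moveHom : Multiplicative (ZMod v) →* MulAut (Multiplicative (sumZero v u)) where
  toFun t := AddEquiv.toMultiplicative (moveEquiv v u t.toAdd)
  map_one' := MulEquiv.ext fun f => Subtype.ext (funext fun i => by
    show f.toAdd.1 (i + 0) = f.toAdd.1 i
    rw [add_zero])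
  map_mul' s t := MulEquiv.ext fun f => Subtype.ext (funext fun i => by
    show f.toAdd.1 (i + (s.toAdd + t.toAdd)) = f.toAdd.1 (i + s.toAdd + t.toAdd)
    rw [add_assoc])

/-- A Frobenius group `u ^ (v - 1) : v`. -/
abbrev Frob : Type := Multiplicative (sumZero v u) ⋊[moveHom v u] Multiplicative (ZMod v)

variable {v u}

instance instFiniteFrob [NeZero u] : Finite (Frob v u) := Finite.of_equiv _ SemidirectProduct.equivProd.symm

theorem pow_apply (x : Frob v u) : ∀ n : ℕ,
    (∀ i, (x ^ n).left.toAdd.1 i = ∑ j ∈ Finset.range n, x.left.toAdd.1 (i + j * x.right.toAdd)) ∧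
      (x ^ n).right.toAdd = n * x.right.toAdd
  | 0 => ⟨fun i => by simp, by simp⟩
  | n + 1 => by
    obtain ⟨h1, h2⟩ := pow_apply x n
    refine ⟨fun i => ?_, ?_⟩
    · rw [pow_succ, SemidirectProduct.mul_left]
      show (x ^ n).left.toAdd.1 i + x.left.toAdd.1 (i + (x ^ n).right.toAdd) = _
      rw [h1, h2, Finset.sum_range_succ]
    · rw [pow_succ, SemidirectProduct.mul_right, toAdd_mul, h2]
      push_cast
      ring

theorem pow_kernel {x : Frob v u} (hx : x.right.toAdd = 0) : x ^ u = 1 := by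
  refine SemidirectProduct.ext (Subtype.ext (funext fun i => ?_)) ?_
  · show (x ^ u).left.toAdd.1 i = 0
    rw [(pow_apply x u).1]
    simp only [hx, mul_zero, add_zero, Finset.sum_const, Finset.card_range, nsmul_eq_mul]
    rw [ZMod.natCast_self, zero_mul]
  · show (x ^ u).right.toAdd = 0
    rw [(pow_apply x u).2, hx, mul_zero]

theorem pow_outside [Fact v.Prime] {x : Frob v u} (hx : x.right.toAdd ≠ 0) : x ^ v = 1 := by
  refine SemidirectProduct.ext (Subtype.ext (funext fun i => ?_)) ?_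
  · show (x ^ v).left.toAdd.1 i = 0
    rw [(pow_apply x v).1, ← x.left.toAdd.2]
    refine Finset.sum_bij (fun j _ => i + j * x.right.toAdd) (fun j _ => Finset.mem_univ _) ?_ ?_ fun j _ => rfl
    · intro j hj j' hj' h
      have h' := mul_right_cancel₀ hx (add_left_cancel h)
      rw [ZMod.natCast_eq_natCast_iff', Nat.mod_eq_of_lt (Finset.mem_range.mp hj),
        Nat.mod_eq_of_lt (Finset.mem_range.mp hj')] at h'
      exact h'
    · intro b _
      refine ⟨((b - i) / x.right.toAdd).val, Finset.mem_range.mpr (ZMod.val_lt _), ?_⟩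
      rw [ZMod.natCast_zmod_val, div_mul_cancel₀ _ hx, add_sub_cancel]
  · show (x ^ v).right.toAdd = 0
    rw [(pow_apply x v).2, ZMod.natCast_self, zero_mul]

theorem right_eq_zero [hv : Fact v.Prime] [hu : Fact u.Prime] (huv : u ≠ v) {x : Frob v u} (hx : x ^ u = 1) :
    x.right.toAdd = 0 := by
  have h := (pow_apply x u).2
  rw [hx] at h
  refine (mul_eq_zero.mp h.symm).resolve_left fun h0 => huv ?_
  exact ((Nat.prime_dvd_prime_iff_eq hv.out hu.out).mp ((ZMod.natCast_eq_zero_iff u v).mp h0)).symm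

theorem orderOf_cases [Fact v.Prime] [Fact u.Prime] (x : Frob v u) :
    orderOf x = 1 ∨ orderOf x = u ∨ orderOf x = v := by
  by_cases hx : x.right.toAdd = 0
  · rcases (Nat.dvd_prime Fact.out).mp (orderOf_dvd_of_pow_eq_one (pow_kernel hx)) with e | e <;> simp [e]
  · rcases (Nat.dvd_prime Fact.out).mp (orderOf_dvd_of_pow_eq_one (pow_outside hx)) with e | e <;> simp [e]

theorem exists_orderOf [hv : Fact v.Prime] [hu : Fact u.Prime] {c : ℕ} (hc : c = 1 ∨ c = u ∨ c = v) :
    ∃ x : Frob v u, orderOf x = c := by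
  rcases hc with rfl | rfl | rfl
  · exact ⟨1, orderOf_one⟩
  · have h1 : (1 : ZMod v) ≠ 0 := one_ne_zero
    let f : sumZero v c := ⟨fun i => (if i = 0 then 1 else 0) - (if i = 1 then 1 else 0), by
      show ∑ i, ((if i = (0 : ZMod v) then (1 : ZMod c) else 0) - (if i = 1 then 1 else 0)) = 0
      simp [Finset.sum_sub_distrib]⟩
    refine ⟨SemidirectProduct.inl (Multiplicative.ofAdd f), orderOf_eq_prime (pow_kernel rfl) fun h => ?_⟩
    have := congrArg (fun y : Frob v c => y.left.toAdd.1 0) h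
    simp [f, h1.symm] at this
  · refine ⟨SemidirectProduct.inr (Multiplicative.ofAdd 1), orderOf_eq_prime (pow_outside ?_) fun h => ?_⟩
    · simp
    · have := congrArg (fun y : Frob c u => y.right.toAdd) h
      simp at this

end Frobenius

/-- The order of a tuple with pairwise coprime orders. -/
theorem orderOf_pi_coprime {ι : Type*} [Fintype ι] {G : ι → Type*} [∀ i, Group (G i)] (x : ∀ i, G i)
    (h : ∀ i j, i ≠ j → (orderOf (x i)).Coprime (orderOf (x j))) : orderOf x = ∏ i, orderOf (x i) := by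
  classical
  refine Nat.dvd_antisymm (orderOf_dvd_of_pow_eq_one (funext fun i => ?_)) ?_
  · rw [Pi.pow_apply, Pi.one_apply]
    exact orderOf_dvd_iff_pow_eq_one.mp (Finset.dvd_prod_of_mem (fun i => orderOf (x i)) (Finset.mem_univ i))
  · have hs : ∀ s : Finset ι, ∏ i ∈ s, orderOf (x i) ∣ orderOf x := fun s => by
      induction s using Finset.induction_on with
      | empty => simp
      | insert i t hit ih =>
        rw [Finset.prod_insert hit]
        refine Nat.Coprime.mul_dvd_of_dvd_of_dvd (Nat.Coprime.prod_right fun j hj => h i j ?_)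
          (orderOf_map_dvd (Pi.evalMonoidHom G i) x) ih
        rintro rfl
        exact hit hj
    exact hs _

variable (s : ℕ) (p : Fin s → Fin 2 → ℕ)

/-- The set of orders. -/
def target : Set ℕ := {m : ℕ | ∃ c : Fin s → ℕ, (∀ j, c j = 1 ∨ c j = p j 0 ∨ c j = p j 1) ∧ m = ∏ j, c j}

variable {s p}

theorem mem_target_prime (hp : ∀ j i, (p j i).Prime) (j : Fin s) (i : Fin 2) : p j i ∈ target s p := by
  classical
  refine ⟨fun k => if k = j then p j i else 1, fun k => ?_, by simp⟩
  by_cases h : k = j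
  · subst h
    fin_cases i <;> simp
  · simp [h]

theorem squarefree_target (hp : ∀ j i, (p j i).Prime) (hinj : ∀ j i j' i', p j i = p j' i' → j = j' ∧ i = i')
    {m : ℕ} (hm : m ∈ target s p) (j : Fin s) (i : Fin 2) : ¬ p j i * p j i ∣ m := by
  classical
  obtain ⟨c, hc, rfl⟩ := hm
  intro h
  have hq := hp j i
  have hk : ∀ k, k ≠ j → (p j i).Coprime (c k) := fun k hk => by
    have hdiff : ∀ i', p j i ≠ p k i' := fun i' e => hk (hinj _ _ _ _ e).1.symm
    rcases hc k with e | e | e
    · rw [e]; exact Nat.coprime_one_right _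
    · rw [e]; exact (Nat.coprime_primes hq (hp _ _)).mpr (hdiff 0)
    · rw [e]; exact (Nat.coprime_primes hq (hp _ _)).mpr (hdiff 1)
  rw [← Finset.mul_prod_erase _ _ (Finset.mem_univ j)] at h
  have hco : (p j i * p j i).Coprime (∏ k ∈ Finset.univ.erase j, c k) :=
    Nat.Coprime.prod_right fun k hk' => Nat.Coprime.mul_left (hk k (Finset.ne_of_mem_erase hk'))
      (hk k (Finset.ne_of_mem_erase hk'))
  have h' := hco.dvd_of_dvd_mul_right h
  rcases hc j with e | e | e <;> rw [e] at h'
  · exact hq.ne_one (Nat.eq_one_of_mul_eq_one_right (Nat.dvd_one.mp h'))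
  all_goals
    have h2 := (Nat.prime_dvd_prime_iff_eq hq (hp _ _)).mp ((dvd_mul_right _ _).trans h')
    rw [← h2] at h'
    have := Nat.le_of_dvd hq.pos h'
    nlinarith [hq.two_le]

theorem pair_not_mem_target (hp : ∀ j i, (p j i).Prime) (hinj : ∀ j i j' i', p j i = p j' i' → j = j' ∧ i = i')
    (j : Fin s) : p j 0 * p j 1 ∉ target s p := by
  classical
  rintro ⟨c, hc, e⟩
  have hk : ∀ i k, k ≠ j → ¬ p j i ∣ c k := fun i k hk hd => by
    rcases hc k with e' | e' | e' <;> rw [e'] at hd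
    · exact (hp j i).ne_one (Nat.dvd_one.mp hd)
    · exact hk (hinj _ _ _ _ ((Nat.prime_dvd_prime_iff_eq (hp _ _) (hp _ _)).mp hd)).1.symm
    · exact hk (hinj _ _ _ _ ((Nat.prime_dvd_prime_iff_eq (hp _ _) (hp _ _)).mp hd)).1.symm
  have hj : ∀ i, p j i ∣ c j := fun i => by
    have hd : p j i ∣ ∏ k, c k := e ▸ by fin_cases i <;> simp
    obtain ⟨k, -, hk'⟩ := ((hp j i).prime.dvd_finsetProd_iff _).mp hd
    by_contra hne
    exact hk i k (fun h => hne (h ▸ hk')) hk'
  have hcop : (p j 0).Coprime (p j 1) := (Nat.coprime_primes (hp _ _) (hp _ _)).mpr fun h =>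
    absurd (hinj _ _ _ _ h).2 (by decide)
  have h := hcop.mul_dvd_of_dvd_of_dvd (hj 0) (hj 1)
  rcases hc j with e' | e' | e' <;> rw [e'] at h <;> have hle := Nat.le_of_dvd (Nat.one_le_iff_ne_zero.mpr ?_) h
  all_goals first | exact one_ne_zero | exact (hp _ _).ne_zero | nlinarith [(hp j 0).two_le, (hp j 1).two_le]

/-- A candidate: the right element orders, and the elements of order dividing `p j (b j)` are closed. -/
def Candidate (b : Fin s → Fin 2) (G : Type) [Group G] : Prop :=
  Set.range (orderOf : G → ℕ) = target s p ∧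
    ∀ j, ∀ x y : G, x ^ p j (b j) = 1 → y ^ p j (b j) = 1 → (x * y) ^ p j (b j) = 1

theorem exists_candidate (hp : ∀ j i, (p j i).Prime) (hinj : ∀ j i j' i', p j i = p j' i' → j = j' ∧ i = i')
    (b : Fin s → Fin 2) : ∃ (G : Type) (_ : Group G) (_ : Fintype G), Candidate (p := p) b G := by
  haveI : ∀ j i, Fact (p j i).Prime := fun j i => ⟨hp j i⟩
  let F : Fin s → Type := fun j => Frob (p j (1 - b j)) (p j (b j))
  have hne : ∀ j, p j (b j) ≠ p j (1 - b j) := fun j h => by
    have := (hinj _ _ _ _ h).2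
    revert this
    generalize b j = i
    fin_cases i <;> decide
  have hpair : ∀ j, ∀ c, (c = 1 ∨ c = p j (b j) ∨ c = p j (1 - b j)) ↔ (c = 1 ∨ c = p j 0 ∨ c = p j 1) := fun j c => by
    generalize b j = i
    fin_cases i
    · simp
    · simp only [Fin.mk_one, Fin.isValue, sub_self]
      tauto
  have hcop : ∀ (x : ∀ j, F j) (j k), j ≠ k → (orderOf (x j)).Coprime (orderOf (x k)) := fun x j k hjk => by
    have hd : ∀ i i', p j i ≠ p k i' := fun i i' e => hjk (hinj _ _ _ _ e).1
    rcases orderOf_cases (x j) with e | e | e <;> rcases orderOf_cases (x k) with e' | e' | e' <;> rw [e, e'] <;>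
      first | exact Nat.coprime_one_left _ | exact Nat.coprime_one_right _
            | exact (Nat.coprime_primes (hp _ _) (hp _ _)).mpr (hd _ _)
  refine ⟨∀ j, F j, inferInstance, Fintype.ofFinite _, Set.ext fun m => ⟨?_, ?_⟩, ?_⟩
  · rintro ⟨x, rfl⟩
    exact ⟨fun j => orderOf (x j), fun j => (hpair j _).mp (orderOf_cases (x j)), orderOf_pi_coprime x (hcop x)⟩
  · rintro ⟨c, hc, rfl⟩
    choose x hx using fun j => exists_orderOf (v := p j (1 - b j)) (u := p j (b j)) ((hpair j _).mpr (hc j))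
    exact ⟨x, by rw [orderOf_pi_coprime x (hcop x)]; simp [hx]⟩
  · intro j x y hx hy
    refine funext fun k => ?_
    have hxk : x k ^ p j (b j) = 1 := congrFun hx k
    have hyk : y k ^ p j (b j) = 1 := congrFun hy k
    by_cases hjk : k = j
    · subst hjk
      refine pow_kernel ?_
      show ((x k).right * (y k).right).toAdd = 0
      rw [toAdd_mul, right_eq_zero (hne k) hxk, right_eq_zero (hne k) hyk, add_zero]
    · have hone : ∀ z : F k, z ^ p j (b j) = 1 → z = 1 := fun z hz => by
        refine orderOf_eq_one_iff.mp ?_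
        rcases (Nat.dvd_prime (hp j (b j))).mp (orderOf_dvd_of_pow_eq_one hz) with e | e
        · exact e
        · rcases orderOf_cases z with e' | e' | e'
          · exact e'
          · exact absurd (hinj _ _ _ _ (e'.symm.trans e)).1 hjk
          · exact absurd (hinj _ _ _ _ (e'.symm.trans e)).1 hjk
      show (x k * y k) ^ p j (b j) = 1
      rw [hone _ hxk, hone _ hyk, mul_one, one_pow]

theorem exists_critical (hp : ∀ j i, (p j i).Prime) (hinj : ∀ j i j' i', p j i = p j' i' → j = j' ∧ i = i')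
    (b : Fin s → Fin 2) : ∃ (G : Type) (_ : Group G) (_ : Fintype G), Candidate (p := p) b G ∧
      ∀ (H : Subgroup G) (N : Subgroup H) [N.Normal], (H ≠ ⊤ ∨ N ≠ ⊥) →
        Set.range (orderOf : (↥H ⧸ N) → ℕ) ≠ target s p := by
  classical
  have hex : ∃ n, ∃ (G : Type) (_ : Group G) (_ : Fintype G), Nat.card G = n ∧ Candidate (p := p) b G := by
    obtain ⟨G, i1, i2, hG⟩ := exists_candidate hp hinj b
    exact ⟨_, G, i1, i2, rfl, hG⟩
  obtain ⟨G, i1, i2, hc, hG⟩ := Nat.find_spec hex
  refine ⟨G, i1, i2, hG, fun H N _ hHN heq => ?_⟩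
  have hlt : Nat.card (↥H ⧸ N) < Nat.card G := by
    rcases hHN with h | h
    · refine lt_of_le_of_lt (Nat.card_le_card_of_surjective _ (QuotientGroup.mk'_surjective N)) ?_
      refine lt_of_le_of_ne (Subgroup.card_le_card_group H) fun h' => h (Subgroup.eq_top_of_card_eq H h')
    · refine lt_of_lt_of_le ?_ (Subgroup.card_le_card_group H)
      rw [Subgroup.card_eq_card_quotient_mul_card_subgroup N]
      refine lt_mul_of_one_lt_right Nat.card_pos ?_
      exact Subgroup.one_lt_card_iff_ne_bot N |>.mpr h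
  refine Nat.find_min hex (hc ▸ hlt) ⟨↥H ⧸ N, inferInstance, Fintype.ofFinite _, rfl, heq, ?_⟩
  intro j
  have hlift : ∀ q : ↥H ⧸ N, q ^ p j (b j) = 1 → ∃ z : H, (z : ↥H ⧸ N) = q ∧ (z : G) ^ p j (b j) = 1 := by
    intro q hq
    obtain ⟨z, rfl⟩ := QuotientGroup.mk'_surjective N q
    set P := p j (b j) with hP
    have hPp : P.Prime := hp j (b j)
    have hsq : ¬ P * P ∣ orderOf z :=
      squarefree_target hp hinj (hG.1 ▸ ⟨(z : G), Subgroup.orderOf_coe z⟩) j (b j)
    by_cases hd : P ∣ orderOf z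
    · obtain ⟨n, hn⟩ := hd
      have hco : P.Coprime n := hPp.coprime_iff_not_dvd.mpr fun h => hsq (hn ▸ Nat.mul_dvd_mul_left P h)
      obtain ⟨l, -, hl⟩ := Nat.exists_mul_mod_eq_one_of_coprime hco.symm hPp.one_lt
      refine ⟨z ^ (n * l), ?_, ?_⟩
      · rw [QuotientGroup.mk_pow, ← Nat.div_add_mod (n * l) P, hl, pow_add, pow_mul, pow_one]
        show (QuotientGroup.mk' N z ^ P) ^ _ * QuotientGroup.mk' N z = _
        rw [hq, one_pow, one_mul]
      · rw [← SubgroupClass.coe_pow, ← pow_mul,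
          show n * l * P = orderOf z * l by rw [hn]; ring, pow_mul, pow_orderOf_eq_one, one_pow]
        rfl
    · refine ⟨1, ?_, by simp⟩
      rw [QuotientGroup.mk_one]
      symm
      refine orderOf_eq_one_iff.mp (Nat.eq_one_of_dvd_coprimes (hPp.coprime_iff_not_dvd.mpr hd) ?_ ?_)
      · exact orderOf_dvd_of_pow_eq_one hq
      · exact orderOf_map_dvd (QuotientGroup.mk' N) z
  intro x y hx hy
  obtain ⟨z, rfl, hz⟩ := hlift x hx
  obtain ⟨w, rfl, hw⟩ := hlift y hy
  have h := hG.2 j _ _ hz hw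
  rw [← QuotientGroup.mk_mul, ← QuotientGroup.mk_pow]
  have : (z * w) ^ p j (b j) = 1 := Subtype.ext (by simpa using h)
  rw [this, QuotientGroup.mk_one]

theorem not_iso (hp : ∀ j i, (p j i).Prime) (hinj : ∀ j i j' i', p j i = p j' i' → j = j' ∧ i = i')
    {b b' : Fin s → Fin 2} (hb : b ≠ b') {G G' : Type} [Group G] [Finite G] [Group G'] [Finite G']
    (hG : Candidate (p := p) b G) (hG' : Candidate (p := p) b' G') : ¬ Nonempty (G ≃* G') := by
  rintro ⟨e⟩
  obtain ⟨j, hj⟩ := Function.ne_iff.mp hb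
  have hcl : ∀ i : Fin 2, ∀ x y : G, x ^ p j i = 1 → y ^ p j i = 1 → (x * y) ^ p j i = 1 := fun i x y hx hy => by
    have hi : i = b j ∨ i = b' j := by
      revert hj
      generalize b j = u
      generalize b' j = u'
      clear hx hy
      revert i u u'
      decide
    rcases hi with rfl | rfl
    · exact hG.2 j x y hx hy
    · refine e.injective ?_
      rw [map_pow, map_mul, map_one]
      exact hG'.2 j _ _ (by rw [← map_pow, hx, map_one]) (by rw [← map_pow, hy, map_one])
  obtain ⟨x, hx⟩ : ∃ x : G, orderOf x = p j 0 := (hG.1.symm ▸ mem_target_prime hp j 0 : _ ∈ Set.range _)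
  obtain ⟨y, hy⟩ : ∃ y : G, orderOf y = p j 1 := (hG.1.symm ▸ mem_target_prime hp j 1 : _ ∈ Set.range _)
  have hcop : (p j 0).Coprime (p j 1) := (Nat.coprime_primes (hp _ _) (hp _ _)).mpr fun h =>
    absurd (hinj _ _ _ _ h).2 (by decide)
  have hx' : x ^ p j 0 = 1 := hx ▸ pow_orderOf_eq_one x
  have hy' : y ^ p j 1 = 1 := hy ▸ pow_orderOf_eq_one y
  have hconj : ∀ (g z : G) (n : ℕ), z ^ n = 1 → (g * z * g⁻¹) ^ n = 1 := fun g z n hz => by
    rw [conj_pow, hz, mul_one, mul_inv_cancel]
  have hc : Commute x y := by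
    have h0 : (x * y * x⁻¹ * y⁻¹) ^ p j 0 = 1 := by
      rw [show x * y * x⁻¹ * y⁻¹ = x * (y * x⁻¹ * y⁻¹) by group]
      exact hcl 0 _ _ hx' (hconj y x⁻¹ _ (by rw [inv_pow, hx', inv_one]))
    have h1 : (x * y * x⁻¹ * y⁻¹) ^ p j 1 = 1 := hcl 1 _ _ (hconj x y _ hy') (by rw [inv_pow, hy', inv_one])
    have := orderOf_eq_one_iff.mp (Nat.eq_one_of_dvd_coprimes hcop (orderOf_dvd_of_pow_eq_one h0)
      (orderOf_dvd_of_pow_eq_one h1))
    rwa [mul_inv_eq_one, mul_inv_eq_iff_eq_mul] at this
  refine pair_not_mem_target hp hinj j ?_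
  rw [← hG.1, ← hx, ← hy]
  exact ⟨x * y, hc.orderOf_mul_eq_mul_orderOf_of_coprime (by rw [hx, hy]; exact hcop)⟩

/-- `2 ^ s` pairwise non-isomorphic critical groups. -/
theorem exists_family (hp : ∀ j i, (p j i).Prime) (hinj : ∀ j i j' i', p j i = p j' i' → j = j' ∧ i = i') :
    ∃ (G : Fin (2 ^ s) → Type) (_ : ∀ a, Group (G a)) (_ : ∀ a, Fintype (G a)),
      (∀ a b, a ≠ b → ¬ Nonempty (G a ≃* G b)) ∧
      ∀ a, Set.range (orderOf : (G a) → ℕ) = target s p ∧
      ∀ (H : Subgroup (G a)) (N : Subgroup ↥H) [N.Normal], (H ≠ ⊤ ∨ N ≠ ⊥) →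
        Set.range (orderOf : (↥H ⧸ N) → ℕ) ≠ target s p := by
  choose G i1 i2 hG hcrit using fun a : Fin (2 ^ s) => exists_critical hp hinj (finFunctionFinEquiv.symm a)
  refine ⟨G, i1, i2, fun a b hab => not_iso hp hinj ?_ (hG a) (hG b), fun a => ⟨(hG a).1, hcrit a⟩⟩
  exact fun h => hab (finFunctionFinEquiv.symm.injective h)

end Cfsg.Agent.SpecCritical
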